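/-
Certificate data of a coset enumeration: justifications.
-/
import Cfsg.Agent.Lib.J1Unique.CertC.Data

set_option autoImplicit false
set_option maxRecDepth 1000000

namespace CfsgLib.J1Unique.CertC

open CfsgLib.CosetEnum

/-- Justifications of the facts from 4000. -/
def just2 : List ℕ := [0x1d600eb200f9f00f9f0030010000e000014, 0xfa00000400100100002001014, 0x400fa100100100002000014, 0xfa20000300100100001001014, 0x300fa300100100001000014, 0xfa40000900100100000001014, 0x300fa300200000000000013, 0x900fa500200000000000014]

theorem just2_ok : J1Unique.Data.gokChunk data 4000 just2 = true := by decide +kernel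

theorem just2_len : just2.length = 8 := by decide +kernel

end CfsgLib.J1Unique.CertC
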