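/-
Conclusion of a coset enumeration: the index of the subgroup of the first three generators is at most 1.
-/
import Cfsg.Agent.Lib.J1Unique.Index
import Cfsg.Agent.Lib.J1Unique.CertC.Facts0
import Cfsg.Agent.Lib.J1Unique.CertC.Facts1
import Cfsg.Agent.Lib.J1Unique.CertC.Facts2
import Cfsg.Agent.Lib.J1Unique.CertC.Rows

set_option autoImplicit false
set_option maxRecDepth 1000000

namespace CfsgLib.J1Unique.CertC

open CfsgLib.CosetEnum

theorem index_le {K : Type*} [Group K] [Finite K] (H : Subgroup K) (g : ℕ → K)
    (hg : J1Unique.GoodGens g) (hsub : ∀ w ∈ subWords, (w.map g).prod ∈ H)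
    (hrel : ∀ w ∈ relWords, (w.map g).prod = 1) : H.index ≤ 1 := by
  refine J1Unique.index_le_of H g hg data rep 1 4008 rfl (by decide +kernel) subWords relWords (by decide +kernel)
    hsub hrel ?_ ?_ (by decide) (by decide +kernel)
  · intro Ω base s hinv hinj hk hwh hwr
    have h0 : ∀ i < 0, data.Holds base s i := fun i hi => absurd hi (Nat.not_lt_zero i)
    have h1 := J1Unique.Data.gokChunk_sound hinv hinj hk hwh hwr just0 0 just0_ok h0
    rw [just0_len] at h1
    have h2 := J1Unique.Data.gokChunk_sound hinv hinj hk hwh hwr just1 2000 just1_ok h1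
    rw [just1_len] at h2
    have h3 := J1Unique.Data.gokChunk_sound hinv hinj hk hwh hwr just2 4000 just2_ok h2
    rw [just2_len] at h3
    exact h3
  · intro Ω base s hinv hh d hd
    exact J1Unique.Data.gokRows_sound hinv hh rows0 0 rows0_ok d (by omega) (by rw [rows0_len]; omega)

end CfsgLib.J1Unique.CertC
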